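import Cfsg.Agent.Lib.RigidGraph.Suz.Presented
import Cfsg.Agent.Lib.Compute.CosetSub

/-!
The group presented on the first six generators of the sporadic Suzuki group has order at most 251596800.
-/

set_option autoImplicit false
set_option maxRecDepth 100000

namespace Cfsg.Agent.SuzG24

open Cfsg.Agent.CosetCert
open Cfsg.Agent.RigidGraph.Suz

section Generic

variable {G : Type*} [Group G] {gen : ℕ → G}

/-- The subgroup of some generators. -/
def gpar (gen : ℕ → G) (S : List ℕ) : Subgroup G := Subgroup.closure (gen '' {x | x ∈ S})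

/-- A generator inside such a subgroup, by position. -/
noncomputable def ggen (gen : ℕ → G) (S : List ℕ) (i : ℕ) : ↥(gpar gen S) :=
  if h : i < S.length then ⟨gen (S.getD i 0), Subgroup.subset_closure ⟨_, by
    rw [List.getD_eq_getElem _ _ h]; exact List.getElem_mem _, rfl⟩⟩ else 1

theorem ggen_invol (hinv : ∀ x, gen x * gen x = 1) (S : List ℕ) (i : ℕ) :
    ggen gen S i * ggen gen S i = 1 := by
  by_cases h : i < S.length
  · rw [ggen, dif_pos h]; exact Subtype.ext (hinv _)
  · rw [ggen, dif_neg h, mul_one]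

theorem ggen_closure (S : List ℕ) {k : ℕ} (hk : k = S.length) :
    Subgroup.closure (ggen gen S '' {x | x < k}) = ⊤ := by
  subst hk
  refine eq_top_iff.2 ((Subgroup.closure_closure_coe_preimage (k := gen '' {x | x ∈ S})).symm.trans_le
    (Subgroup.closure_mono ?_))
  rintro ⟨g, hg⟩ ⟨x, hx, rfl⟩
  obtain ⟨i, hi, rfl⟩ := List.getElem_of_mem (show x ∈ S from hx)
  refine ⟨i, hi, Subtype.ext ?_⟩
  rw [ggen, dif_pos hi]
  show gen (S.getD i 0) = gen S[i]
  rw [List.getD_eq_getElem _ _ hi]

theorem coe_wprod_ggen (S : List ℕ) : ∀ w : List ℕ, (∀ x ∈ w, x < S.length) →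
    ((wprod (ggen gen S) w : ↥(gpar gen S)) : G) = wprod gen (w.map fun x => S.getD x 0) := by
  intro w
  induction w with
  | nil => intro _; rfl
  | cons x w ih =>
    intro h
    rw [List.map_cons, wprod_cons, wprod_cons, Subgroup.coe_mul, ih fun y hy => h y (List.mem_cons_of_mem _ hy),
      ggen, dif_pos (h x List.mem_cons_self)]

theorem wprod_mem_gpar {S : List ℕ} {w : List ℕ} (h : ∀ x ∈ w, x ∈ S) : wprod gen w ∈ gpar gen S := by
  refine Subgroup.list_prod_mem _ fun g hg => ?_
  obtain ⟨x, hx, rfl⟩ := List.mem_map.1 hg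
  exact Subgroup.subset_closure ⟨x, h x hx, rfl⟩

theorem card_gpar_step (hinv : ∀ x, gen x * gen x = 1) {known : List (List ℕ)}
    (hknown : ∀ u ∈ known, wprod gen u = 1) {P : Params} {S S' : List ℕ} {base : List (List ℕ)}
    {hints : List (ℕ × ℕ × Bool)} {n m : ℕ} {tree : List ℕ} {phases : List Phase} (hk : P.k = S.length)
    (hS : ∀ x ∈ S', x ∈ S) (hb : localOK S base known = true)
    (hrots : rotsOK base P.rots.entries hints = true)
    (hsubs : (P.subs.all fun u => u.all fun x => Nat.blt x S.length && S'.any fun y => Nat.beq (S.getD x 0) y) = true)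
    (hcert : checkCert P n tree phases = true) (htab : tableOK P n = true) (hn : 0 < n)
    (hcard : Finite ↥(gpar gen S') ∧ Nat.card ↥(gpar gen S') ≤ m) :
    Finite ↥(gpar gen S) ∧ Nat.card ↥(gpar gen S) ≤ m * n := by
  have hle : gpar gen S' ≤ gpar gen S := Subgroup.closure_mono (Set.image_mono fun x hx => hS x hx)
  set H := (gpar gen S').subgroupOf (gpar gen S)
  have hbase : ∀ w ∈ base, wprod (ggen gen S) w = 1 := by
    intro w hw
    simp only [localOK, List.all_eq_true, Bool.and_eq_true, Nat.blt_eq, List.any_eq_true] at hb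
    obtain ⟨h1, u, hu, he⟩ := hb w hw
    refine Subtype.ext ?_
    rw [coe_wprod_ggen S w h1, eq_of_wordEq he, hknown u hu]
    rfl
  have hsub : ∀ u ∈ P.subs, wprod (ggen gen S) u ∈ H := by
    intro u hu
    have h := List.all_eq_true.1 hsubs u hu
    simp only [List.all_eq_true, Bool.and_eq_true, Nat.blt_eq, List.any_eq_true, Nat.beq_eq] at h
    rw [Subgroup.mem_subgroupOf, coe_wprod_ggen S u fun x hx => (h x hx).1]
    refine wprod_mem_gpar fun y hy => ?_
    obtain ⟨x, hx, rfl⟩ := List.mem_map.1 hy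
    obtain ⟨-, z, hz, e⟩ := h x hx
    exact e ▸ hz
  obtain ⟨hf, hi, -⟩ := index_bound (P := P) (H := H) (ggen_invol hinv S) (ggen_closure S hk)
    hbase hrots hsub hcert htab hn
  obtain ⟨hfd, hd⟩ := hcard
  haveI : Finite ↥H := Finite.of_equiv _ (Subgroup.subgroupOfEquivOfLe hle).toEquiv.symm
  refine ⟨Finite.of_equiv _ (Subgroup.groupEquivQuotientProdSubgroup (s := H)).symm, ?_⟩
  rw [← Subgroup.card_mul_index H, Nat.card_congr (Subgroup.subgroupOfEquivOfLe hle).toEquiv]
  exact Nat.mul_le_mul hd hi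

end Generic

/-- The relators in the six generators. -/
def rels : List (List ℕ) := [[0, 0], [1, 1], [2, 2], [3, 3], [4, 4], [5, 5]] ++ Coset.Abcdef.base

/-- A generator of the free group by number. -/
def fgen (x : ℕ) : FreeGroup (Fin 6) := FreeGroup.of (Fin.ofNat 6 x)

/-- The presented group on six generators. -/
abbrev A6 : Type := PresentedGroup {r : FreeGroup (Fin 6) | ∃ w ∈ rels, r = wprod fgen w}

/-- The generators by number. -/
def agen (x : ℕ) : A6 := PresentedGroup.mk _ (fgen x)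

theorem agen_rel : ∀ w ∈ rels, wprod agen w = 1 := by
  intro w hw
  rw [show agen = fun x => PresentedGroup.mk _ (fgen x) from rfl,
    ← map_wprod (PresentedGroup.mk {r : FreeGroup (Fin 6) | ∃ w ∈ rels, r = wprod fgen w}) fgen]
  exact PresentedGroup.one_of_mem ⟨w, hw, rfl⟩

theorem agen_invol (x : ℕ) : agen x * agen x = 1 := by
  have h : ∀ i : Fin 6, [(i : ℕ), (i : ℕ)] ∈ rels := by decide +kernel
  have h2 := agen_rel _ (h (Fin.ofNat 6 x))
  have e : agen ((Fin.ofNat 6 x : Fin 6) : ℕ) = agen x := by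
    rw [agen, agen, fgen, fgen]
    congr 2
    ext
    simp
  rw [wprod_cons, wprod_cons, wprod_nil, mul_one, e] at h2
  exact h2

theorem agen_top : gpar agen [0, 1, 2, 3, 4, 5] = ⊤ := by
  rw [eq_top_iff, ← PresentedGroup.closure_range_of, Subgroup.closure_le]
  rintro _ ⟨i, rfl⟩
  refine Subgroup.subset_closure ⟨i, ?_, ?_⟩
  · have : ∀ i : Fin 6, (i : ℕ) ∈ [0, 1, 2, 3, 4, 5] := by decide
    exact this i
  · show agen i = _
    rw [agen, fgen]
    congr 2
    ext
    simp [Nat.mod_eq_of_lt i.2]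

theorem card_A6 : Finite A6 ∧ Nat.card A6 ≤ 251596800 := by
  have h0 : Finite ↥(gpar agen []) ∧ Nat.card ↥(gpar agen []) ≤ 1 := by
    have h : gpar agen [] = ⊥ := by simp [gpar]
    rw [h]
    exact ⟨inferInstance, by simp⟩
  have h1 := card_gpar_step (S := [0, 2, 3]) agen_invol agen_rel (P := Coset.Acd.P) rfl (by simp) (by decide +kernel)
    Coset.Acd.rots_ok (by decide +kernel) Coset.Acd.cert_ok Coset.Acd.tab_ok (by norm_num) h0
  have h2 := card_gpar_step (S := [0, 1, 2, 3]) agen_invol agen_rel (P := Coset.Abcd.P) rfl (by simp) (by decide +kernel)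
    Coset.Abcd.rots_ok (by decide +kernel) Coset.Abcd.cert_ok Coset.Abcd.tab_ok (by norm_num) h1
  have h3 := card_gpar_step (S := [0, 1, 2, 3, 4]) agen_invol agen_rel (P := Coset.Abcde.P) rfl (by simp) (by decide +kernel)
    Coset.Abcde.rots_ok (by decide +kernel) Coset.Abcde.cert_ok Coset.Abcde.tab_ok (by norm_num) h2
  have h4 := card_gpar_step (S := [0, 1, 2, 3, 4, 5]) agen_invol agen_rel (P := Coset.Abcdef.P) rfl (by simp) (by decide +kernel)
    Coset.Abcdef.rots_ok (by decide +kernel) Coset.Abcdef.cert_ok Coset.Abcdef.tab_ok (by norm_num) h3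
  rw [agen_top] at h4
  obtain ⟨hf, hc⟩ := h4
  exact ⟨Finite.of_equiv _ Subgroup.topEquiv.toEquiv,
    (Nat.card_congr Subgroup.topEquiv.toEquiv).symm.le.trans (hc.trans (by norm_num))⟩

theorem card_par : Finite ↥(par [0, 1, 2, 3, 4, 5]) ∧ Nat.card ↥(par [0, 1, 2, 3, 4, 5]) = 251596800 := by
  obtain ⟨hf, hc⟩ := card_abcdef
  refine ⟨hf, le_antisymm (hc.trans (by norm_num)) ?_⟩
  have hG : Nat.card PG = 448345497600 := by
    rw [Nat.card_congr (MonoidHom.ofInjective range_eq.2).toEquiv, range_eq.1, card_suzGroup]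
  have hsub : ∀ u ∈ Cfsg.Agent.CosetData.SuzA.P.subs, wprod pgen u ∈ par [0, 1, 2, 3, 4, 5] := by
    intro u hu
    have hchk : (Cfsg.Agent.CosetData.SuzA.P.subs.all fun v => v.all fun x =>
        decide (x ∈ [0, 1, 2, 3, 4, 5])) = true := by decide +kernel
    have h := List.all_eq_true.1 hchk u hu
    simp only [List.all_eq_true, decide_eq_true_eq] at h
    exact wprod_mem h
  obtain ⟨-, hi, -⟩ := index_bound (P := Cfsg.Agent.CosetData.SuzA.P) (H := par [0, 1, 2, 3, 4, 5]) pgen_invol
    (show Subgroup.closure (pgen '' {x | x < Cfsg.Agent.CosetData.SuzA.P.k}) = ⊤ from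
      Cfsg.Agent.CosetData.SuzA.setup.closure_gen)
    base_one Cfsg.Agent.CosetData.SuzA.rots_ok hsub Cfsg.Agent.CosetData.SuzA.cert_ok
    Cfsg.Agent.CosetData.SuzA.tab_ok (n := 1782) (by norm_num)
  have hm := Subgroup.card_mul_index (par [0, 1, 2, 3, 4, 5])
  rw [hG] at hm
  by_contra hlt
  have h1 := Nat.mul_le_mul (Nat.le_of_lt_succ (Nat.lt_succ_of_lt (Nat.lt_of_not_le hlt))) hi
  have h2 := Nat.mul_lt_mul_of_lt_of_le (Nat.lt_of_not_le hlt) hi (by norm_num)
  omega

/-- The map onto the subgroup of the Suzuki group. -/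
theorem nonempty_equiv_par : Nonempty (A6 ≃* ↥(par [0, 1, 2, 3, 4, 5])) := by
  have hr : ∀ r ∈ {r : FreeGroup (Fin 6) | ∃ w ∈ rels, r = wprod fgen w},
      FreeGroup.lift (fun i : Fin 6 => lgen [0, 1, 2, 3, 4, 5] i) r = 1 := by
    rintro r ⟨w, hw, rfl⟩
    rw [map_wprod]
    have hlt : (rels.all fun w => w.all fun x => Nat.blt x 6) = true := by decide +kernel
    have hw' := List.all_eq_true.1 hlt w hw
    simp only [List.all_eq_true, Nat.blt_eq] at hw'
    have e : wprod (fun x => FreeGroup.lift (fun i : Fin 6 => lgen [0, 1, 2, 3, 4, 5] i) (fgen x)) w =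
        wprod (lgen [0, 1, 2, 3, 4, 5]) w := by
      clear hw hlt
      induction w with
      | nil => rfl
      | cons x w ih =>
        rw [wprod_cons, wprod_cons, ih fun y hy => hw' y (List.mem_cons_of_mem _ hy), fgen, FreeGroup.lift_apply_of,
          Fin.val_ofNat, Nat.mod_eq_of_lt (hw' x List.mem_cons_self)]
    rw [e]
    refine Subtype.ext ?_
    rw [coe_wprod_lgen _ _ hw']
    have hk : (rels.all fun w => Cfsg.Agent.CosetData.SuzA.base.any (fun u =>
        wordEq (w.map fun x => [0, 1, 2, 3, 4, 5].getD x 0) u) ||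
        (List.range 6).any fun x => wordEq (w.map fun x => [0, 1, 2, 3, 4, 5].getD x 0) [x, x]) = true := by
      decide +kernel
    have h := List.all_eq_true.1 hk w hw
    rw [Bool.or_eq_true, List.any_eq_true, List.any_eq_true] at h
    rcases h with ⟨u, hu, he⟩ | ⟨x, -, he⟩
    · rw [eq_of_wordEq he, base_one u hu]; rfl
    · rw [eq_of_wordEq he, wprod_cons, wprod_cons, wprod_nil, mul_one, pgen_invol]; rfl
  let f : A6 →* ↥(par [0, 1, 2, 3, 4, 5]) := PresentedGroup.toGroup hr
  have hs : Function.Surjective f := by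
    rw [← MonoidHom.range_eq_top, eq_top_iff, ← lgen_closure [0, 1, 2, 3, 4, 5] rfl, Subgroup.closure_le]
    rintro _ ⟨x, hx, rfl⟩
    exact ⟨PresentedGroup.of ⟨x, hx⟩, PresentedGroup.toGroup.of hr⟩
  obtain ⟨hf, hc⟩ := card_A6
  obtain ⟨hp, hcp⟩ := card_par
  exact ⟨MulEquiv.ofBijective f ((Nat.bijective_iff_surjective_and_card _).2
    ⟨hs, le_antisymm (hcp ▸ hc) (Nat.card_le_card_of_surjective f hs)⟩)⟩

end Cfsg.Agent.SuzG24
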