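import Cfsg.Agent.Lib.PrimeGraphG2.G24Data

/-! Six involutions of G2(4) satisfying the relations of the six generators, and the root elements as words in them. -/

set_option autoImplicit false

namespace Cfsg.Agent.SuzG24

open Cfsg.Agent.G24

/-- The images of the six generators. -/
def imgs : List C6 := [1180663770692173775185,
  4598450264943710581579,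
  1180663682709768388865,
  239262456545855408328,
  4132863353358194238283,
  1180663946656992936945]

/-- The images as products of root elements. -/
def imgW : List (List (Fin 12 × ℕ)) := [
  [(7, 1), (6, 1), (0, 1), (6, 1), (7, 1)],
  [(3, 2), (11, 1), (7, 2), (6, 1), (0, 1), (6, 1), (7, 2), (11, 1), (3, 2)],
  [(0, 1)],
  [(2, 1), (4, 1), (9, 2), (9, 1), (2, 1), (9, 1), (9, 2), (4, 1), (2, 1)],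
  [(4, 1), (9, 2), (0, 2), (9, 2), (2, 1), (9, 2), (0, 2), (9, 2), (4, 1)],
  [(7, 1), (6, 2), (5, 1), (6, 2), (0, 1), (6, 2), (5, 1), (6, 2), (7, 1)]]

/-- The root elements as products of the six images. -/
def rootW : List (List ℕ) := [
  [],
  [2],
  [1, 2, 5, 1, 0, 1, 2, 5, 1],
  [2, 1, 2, 5, 1, 0, 1, 2, 5, 1],
  [],
  [1, 2, 4, 3, 2, 1, 0, 1, 2, 3, 2, 1, 4],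
  [1, 2, 4, 3, 2, 1, 0, 5, 1, 2, 3, 2, 1, 4],
  [1, 2, 4, 3, 2, 1, 0, 1, 2, 3, 2, 1, 4, 1, 2, 4, 3, 2, 1, 0, 5, 1, 2, 3, 2, 1, 4],
  [],
  [0, 1, 0, 1, 2, 4, 5, 1, 0, 1, 2, 3, 2, 1, 3, 2, 4, 3, 2, 5, 1, 0, 2, 1, 3, 2, 4, 5, 1, 0, 1],
  [1, 0, 1, 4, 5, 1, 0, 2, 1, 3, 2, 1, 3, 2, 4, 3, 2, 1, 5, 1, 0, 2, 3, 2, 1, 0, 4, 5, 1],
  [0, 1, 0, 1, 2, 4, 5, 1, 0, 1, 2, 3, 2, 1, 3, 2, 4, 3, 2, 5, 1, 0, 2, 1, 3, 2, 4, 5, 1, 0, 1, 1, 0, 1, 4, 5, 1, 0, 2, 1, 3, 2, 1, 3, 2, 4, 3, 2, 1, 5, 1, 0, 2, 3, 2, 1, 0, 4, 5, 1],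
  [],
  [1, 4, 3, 2, 3, 2, 1, 0, 5, 1, 2, 3, 2, 4, 3, 2, 1, 0, 5, 1, 2, 3, 2, 1, 3, 2, 4],
  [1, 0, 2, 1, 4, 3, 2, 1, 3, 4, 5, 1, 0, 1, 2, 3, 2, 1, 4, 3, 5, 1, 0, 1, 2, 3, 4, 5, 1, 0, 2, 1],
  [1, 4, 3, 2, 3, 2, 1, 0, 5, 1, 2, 3, 2, 4, 3, 2, 1, 0, 5, 1, 2, 3, 2, 1, 3, 2, 4, 1, 0, 2, 1, 4, 3, 2, 1, 3, 4, 5, 1, 0, 1, 2, 3, 2, 1, 4, 3, 5, 1, 0, 1, 2, 3, 4, 5, 1, 0, 2, 1],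
  [],
  [0, 1, 0, 2, 4, 3, 2, 5, 1, 0, 1, 2, 3, 2, 3, 4, 3, 2, 1, 0, 1, 2, 3, 2, 3, 4, 5, 1, 0, 2],
  [3, 2, 1, 0, 1, 3, 4, 3, 2, 1, 5, 1, 2, 3, 2, 1, 0, 3, 4, 3, 5, 1, 2, 3],
  [0, 1, 0, 2, 4, 3, 2, 5, 1, 0, 1, 2, 3, 2, 3, 4, 3, 2, 1, 0, 1, 2, 3, 2, 3, 4, 5, 1, 0, 2, 3, 2, 1, 0, 1, 3, 4, 3, 2, 1, 5, 1, 2, 3, 2, 1, 0, 3, 4, 3, 5, 1, 2, 3],
  [],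
  [2, 3, 4, 3, 2, 1, 0, 3, 2, 1, 0, 4, 3, 2, 1, 0, 3, 2, 1, 3, 4, 3, 2, 3, 4],
  [3, 2, 3, 4, 3, 2, 1, 3, 2, 4, 3, 2, 1, 0, 5, 1, 2, 3, 2, 1, 3, 4, 3, 2, 3, 2, 4, 3],
  [2, 3, 4, 3, 2, 1, 0, 3, 2, 1, 0, 4, 3, 2, 1, 0, 3, 2, 1, 3, 4, 3, 2, 3, 4, 3, 2, 3, 4, 3, 2, 1, 3, 2, 4, 3, 2, 1, 0, 5, 1, 2, 3, 2, 1, 3, 4, 3, 2, 3, 2, 4, 3],
  [],
  [1, 0, 1, 4, 3, 2, 1, 0, 1, 3, 4],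
  [1, 0, 4, 3, 2, 5, 1, 0, 1, 0, 2, 3, 4, 5, 1],
  [1, 0, 1, 4, 3, 2, 1, 0, 1, 3, 4, 1, 0, 4, 3, 2, 5, 1, 0, 1, 0, 2, 3, 4, 5, 1],
  [],
  [0, 1, 2, 3, 4, 3, 2, 3, 2, 5, 1, 0, 1, 2, 3, 2, 1, 4, 3, 2, 3, 5, 1, 0, 1, 2, 1, 0, 5, 1],
  [0, 5, 1, 0, 2, 3, 2, 1, 0, 4, 3, 2, 1, 5, 1, 2, 3, 2, 1, 4, 3, 2, 1, 3, 2, 4, 3, 5, 1, 2, 3],
  [0, 1, 2, 3, 4, 3, 2, 3, 2, 5, 1, 0, 1, 2, 3, 2, 1, 4, 3, 2, 3, 5, 1, 0, 1, 2, 1, 0, 5, 1, 0, 5, 1, 0, 2, 3, 2, 1, 0, 4, 3, 2, 1, 5, 1, 2, 3, 2, 1, 4, 3, 2, 1, 3, 2, 4, 3, 5, 1, 2, 3],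
  [],
  [0, 3, 2, 1, 4, 5, 1, 0, 2, 1, 3, 2, 1, 3, 4, 3, 5, 1, 0, 1, 2, 1, 0, 3, 5],
  [1, 2, 1, 4, 5, 1, 0, 2, 3, 2, 1, 0, 1, 2, 3, 4, 3, 2, 1, 0, 3, 2, 1, 4, 5, 1, 2],
  [0, 3, 2, 1, 4, 5, 1, 0, 2, 1, 3, 2, 1, 3, 4, 3, 5, 1, 0, 1, 2, 1, 0, 3, 5, 1, 2, 1, 4, 5, 1, 0, 2, 3, 2, 1, 0, 1, 2, 3, 4, 3, 2, 1, 0, 3, 2, 1, 4, 5, 1, 2],
  [],
  [1, 3, 4, 5, 1, 0, 1, 2, 1, 3, 2, 1, 3, 4, 3, 2, 1, 3, 2, 1, 0, 1, 4, 3, 5, 1],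
  [1, 0, 3, 4, 3, 2, 3, 5, 1, 2, 3, 2, 1, 4, 3, 2, 1, 0, 3, 4, 5, 1],
  [1, 3, 4, 5, 1, 0, 1, 2, 1, 3, 2, 1, 3, 4, 3, 2, 1, 3, 2, 1, 0, 1, 4, 3, 5, 1, 1, 0, 3, 4, 3, 2, 3, 5, 1, 2, 3, 2, 1, 4, 3, 2, 1, 0, 3, 4, 5, 1],
  [],
  [0, 4, 3, 2, 1, 0, 3, 2, 1, 0, 3, 4, 3, 2, 1, 0, 3, 2, 1, 0, 4, 3, 2, 1, 3],
  [0, 2, 1, 0, 3, 2, 1, 0, 3, 2, 4, 3, 2, 1, 0, 5, 1, 0, 2, 3, 2, 1, 0, 4, 3, 2, 1, 0, 3, 2],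
  [0, 4, 3, 2, 1, 0, 3, 2, 1, 0, 3, 4, 3, 2, 1, 0, 3, 2, 1, 0, 4, 3, 2, 1, 3, 0, 2, 1, 0, 3, 2, 1, 0, 3, 2, 4, 3, 2, 1, 0, 5, 1, 0, 2, 3, 2, 1, 0, 4, 3, 2, 1, 0, 3, 2],
  [],
  [3, 2, 1, 0, 1, 4, 3, 2, 1, 0, 1, 3, 2, 4, 3],
  [3, 2, 1, 0, 4, 3, 2, 5, 1, 0, 1, 0, 2, 3, 4, 5, 1, 2, 3],
  [3, 2, 1, 0, 1, 4, 3, 2, 1, 0, 1, 3, 2, 4, 3, 3, 2, 1, 0, 4, 3, 2, 5, 1, 0, 1, 0, 2, 3, 4, 5, 1, 2, 3]]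

end Cfsg.Agent.SuzG24
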