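import Cfsg.Agent.Lib.SuzG24.Chain
import Cfsg.Agent.Lib.SuzG24.Data
import Cfsg.Agent.Lib.PrimeGraphG2.G24Model

/-!
The group presented on six generators is G2(4).
-/

set_option autoImplicit false
set_option maxRecDepth 100000
set_option linter.style.haveILetI false

namespace Cfsg.Agent.SuzG24

open Cfsg.Agent.CosetCert
open Cfsg.Agent.G24
open Cfsg.Lie

/-- The product of a word in the six images. -/
def evG : List ℕ → C6
  | [] => oneC
  | x :: w => mulC (imgs.getD x oneC) (evG w)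

theorem imgs_invol : ∀ x : Fin 6, mulC (imgs.getD x oneC) (imgs.getD x oneC) = oneC := by decide +kernel

theorem rels_ok : (Cfsg.Agent.SuzG24.rels.all fun w => Nat.beq (evG w) oneC && w.all fun x => Nat.blt x 6) = true := by
  decide +kernel

theorem imgW_ok : ∀ x : Fin 6, evC (imgW.getD x []) = imgs.getD x oneC ∧
    ((imgW.getD x []).all fun p => Nat.blt p.2 4) = true := by decide +kernel

theorem rootW_ok : ∀ (r : Fin 12) (t : Fin 4), evG (rootW.getD (4 * (r : ℕ) + t) []) = xC r t ∧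
    ((rootW.getD (4 * (r : ℕ) + t) []).all fun x => Nat.blt x 6) = true := by decide +kernel

/-- An image as a unit. -/
noncomputable def imgU (i : Fin 6) : M6ˣ :=
  ⟨dC (imgs.getD i oneC), dC (imgs.getD i oneC), by rw [← dC_mul, imgs_invol i, dC_one],
    by rw [← dC_mul, imgs_invol i, dC_one]⟩

theorem val_wprod : ∀ w : List ℕ, (∀ x ∈ w, x < 6) →
    ((FreeGroup.lift imgU (wprod fgen w) : M6ˣ) : M6) = dC (evG w)
  | [], _ => by rw [wprod_nil, map_one, Units.val_one]; exact dC_one.symm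
  | x :: w, h => by
    rw [wprod_cons, map_mul, Units.val_mul, val_wprod w (fun y hy => h y (List.mem_cons_of_mem _ hy)),
      fgen, FreeGroup.lift_apply_of]
    show dC (imgs.getD ((Fin.ofNat 6 x : Fin 6) : ℕ) oneC) * _ = dC (mulC (imgs.getD x oneC) (evG w))
    rw [dC_mul, Fin.val_ofNat, Nat.mod_eq_of_lt (h x List.mem_cons_self)]

theorem rels_lift : ∀ r ∈ {r : FreeGroup (Fin 6) | ∃ w ∈ Cfsg.Agent.SuzG24.rels, r = wprod fgen w},
    FreeGroup.lift imgU r = 1 := by
  rintro r ⟨w, hw, rfl⟩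
  have h := List.all_eq_true.1 rels_ok w hw
  simp only [Bool.and_eq_true, List.all_eq_true, Nat.blt_eq, Nat.beq_eq] at h
  refine Units.ext ?_
  rw [val_wprod w h.2, h.1, Units.val_one, dC_one]

/-- The representation of the presented group. -/
noncomputable def rep : A6 →* M6ˣ := PresentedGroup.toGroup rels_lift

theorem rep_range : rep.range = sigma.range := by
  refine le_antisymm ?_ ?_
  · rw [MonoidHom.range_eq_map, ← PresentedGroup.closure_range_of, MonoidHom.map_closure, Subgroup.closure_le]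
    rintro _ ⟨_, ⟨i, rfl⟩, rfl⟩
    obtain ⟨h1, h2⟩ := imgW_ok i
    simp only [List.all_eq_true, Nat.blt_eq] at h2
    obtain ⟨g, hg⟩ := exists_word _ h2
    refine ⟨g, Units.ext ?_⟩
    rw [hg, h1, show rep (PresentedGroup.of i) = imgU i from PresentedGroup.toGroup.of rels_lift]
    rfl
  · rw [MonoidHom.range_eq_map, ← PresentedGroup.closure_range_of, MonoidHom.map_closure, Subgroup.closure_le]
    rintro _ ⟨_, ⟨p, rfl⟩, rfl⟩
    obtain ⟨h1, h2⟩ := rootW_ok p.1 ⟨enc p.2, (by decide +kernel : ∀ x : F4, enc x < 4) p.2⟩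
    simp only [List.all_eq_true, Nat.blt_eq] at h2
    refine ⟨PresentedGroup.mk _ (wprod fgen (rootW.getD (4 * (p.1 : ℕ) + enc p.2) [])), Units.ext ?_⟩
    rw [show sigma (PresentedGroup.of p) = gen6 p from PresentedGroup.toGroup.of rels_hold]
    refine (val_wprod _ h2).trans ?_
    rw [h1]
    rfl

theorem nonempty_equiv_G4 : Nonempty (A6 ≃* G4) := by
  obtain ⟨θ, hs, hk, -⟩ := S2396.result (K := F4) chevG2 (by simp) (fun _ => ⟨⟨0, 1⟩, by decide +kernel⟩)
  let ψ : G4 →* M6ˣ := θ.liftOfSurjective hs ⟨sigma, fun g hg => eq_one_of_central (hk hg)⟩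
  have hψ : ∀ g, ψ (θ g) = sigma g := MonoidHom.liftOfRightInverse_comp_apply _ _ _ _
  haveI := isSimple_G4
  have hr : ψ.range = sigma.range := by
    ext u
    constructor
    · rintro ⟨a, rfl⟩
      obtain ⟨g, rfl⟩ := hs a
      exact ⟨g, (hψ g).symm⟩
    · rintro ⟨g, rfl⟩
      exact ⟨θ g, hψ g⟩
  have hinj : Function.Injective ψ := by
    rw [← MonoidHom.ker_eq_bot_iff]
    refine (inferInstance : ψ.ker.Normal).eq_bot_or_eq_top.resolve_right fun h => ?_
    obtain ⟨-, -, n7, -⟩ := id pow_check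
    obtain ⟨g, hg⟩ := exists_word w7 (by decide)
    refine pow_check.2.1 ?_
    rw [← words_check.2.2.1, ← hg, ← hψ g, MonoidHom.mem_ker.1 (h ▸ Subgroup.mem_top (θ g)), Units.val_one]
  let e : G4 ≃* ↥rep.range := (MonoidHom.ofInjective hinj).trans (MulEquiv.subgroupCongr (hr.trans rep_range.symm))
  obtain ⟨hf, hc⟩ := card_A6
  have hcard : Nat.card ↥rep.range = 251596800 := (Nat.card_congr e.toEquiv).symm.trans card_G4
  exact ⟨(MulEquiv.ofBijective rep.rangeRestrict ((Nat.bijective_iff_surjective_and_card _).2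
    ⟨rep.rangeRestrict_surjective, le_antisymm (hcard ▸ hc)
      (Nat.card_le_card_of_surjective _ rep.rangeRestrict_surjective)⟩)).trans e.symm⟩

theorem nonempty_par_G4 : Nonempty (↥(Cfsg.Agent.RigidGraph.Suz.par [0, 1, 2, 3, 4, 5]) ≃* G4) := by
  obtain ⟨a⟩ := nonempty_equiv_par
  obtain ⟨b⟩ := nonempty_equiv_G4
  exact ⟨a.symm.trans b⟩

end Cfsg.Agent.SuzG24
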